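import Groth.Agent.Divis.BlowChart
import Groth.Agent.SDiv.K470.BlowProj
import Groth.Agent.Mor.K385.LocHProj

/-!
# Blow-ups of Noetherian affine schemes are H-projective
-/

set_option autoImplicit false
universe u
open CategoryTheory CategoryTheory.Limits AlgebraicGeometry TopologicalSpace BlowUp

namespace Groth.Agent.Refuted.K609.HProj

open Groth.Agent.Divis.BlowChart

variable {A : Type u} [CommRing A] {I : Ideal A} {X : Scheme.{u}} {b : X ⟶ Spec (CommRingCat.of A)}

theorem isFiniteTypeIdeal [IsNoetherianRing A] (I : Ideal A) : IsFiniteTypeIdeal (idl I) := by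
  intro U
  have h1 : IsNoetherianRing (CommRingCat.of A) := inferInstanceAs (IsNoetherianRing A)
  have h2 : IsLocallyNoetherian (Spec (CommRingCat.of A)) := inferInstance
  have h3 : IsNoetherianRing Γ(Spec (CommRingCat.of A), U.1) := IsLocallyNoetherian.component_noetherian U
  exact h3.noetherian _

/-- G1: the blow-up of a Noetherian affine scheme is H-projective. -/
theorem hprojective [IsNoetherianRing A] (hb : IsBlowUp b (idl I)) : RelProj.IsHProjective b := by
  have h1 := K385.LocHProj.isHProjective_restrict_of_isProjective b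
    (K470.BlowProj.isProjective hb (isFiniteTypeIdeal I)) ⊤ (isAffineOpen_top _)
  have i1 : IsIso (⊤ : (Spec (CommRingCat.of A)).Opens).ι := (Spec (CommRingCat.of A)).topIso.isIso_hom
  have i2 : IsIso (b ⁻¹ᵁ (⊤ : (Spec (CommRingCat.of A)).Opens)).ι := X.topIso.isIso_hom
  refine K386.HQP.isHProjective_of_isPullback (f := b ∣_ ⊤)
    (g := inv (⊤ : (Spec (CommRingCat.of A)).Opens).ι)
    (a := inv (b ⁻¹ᵁ (⊤ : (Spec (CommRingCat.of A)).Opens)).ι) (IsPullback.of_horiz_isIso ⟨?_⟩) h1
  rw [IsIso.inv_comp_eq, ← Category.assoc, ← morphismRestrict_ι, Category.assoc, IsIso.hom_inv_id,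
    Category.comp_id]

theorem isProper [IsNoetherianRing A] (hb : IsBlowUp b (idl I)) : IsProper b :=
  Groth.Agent.Flat2C.BlowProper.isProper_of_isBlowUp hb (isFiniteTypeIdeal I)

theorem locally_hprojective [IsNoetherianRing A] (hb : IsBlowUp b (idl I)) (y : Spec (CommRingCat.of A)) :
    ∃ U : (Spec (CommRingCat.of A)).Opens, y ∈ U ∧ RelProj.IsHProjective (b ∣_ U) :=
  ⟨⊤, trivial, K385.LocHProj.isHProjective_restrict_of_isProjective b
    (K470.BlowProj.isProjective hb (isFiniteTypeIdeal I)) ⊤ (isAffineOpen_top _)⟩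

end Groth.Agent.Refuted.K609.HProj
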