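import Groth.Prelude.Def_ClSub2
import Groth.Agent.CohqA.TwoChart
import Groth.Agent.CurvesC.TwoAffine
import Groth.Agent.Krr.H497.Bridge
import Groth.Agent.FlatA.AppIso
import Groth.Agent.Models.K380.Bir

/-!
# Mayer-Vietoris with two affine charts over an affine base

`f : X ⟶ Y` with `Y` affine, `X = U ∪ V` with `U`, `V`, `U ∩ V` affine.
* `isZero_Rpush`: `Γ(U) × Γ(V) ⟶ Γ(U ∩ V)` onto implies `R^p f_* O_X = 0` for all `p > 0`;
* `isIso_unitToPush`: if moreover `Γ(Y)` is the kernel, then `O_Y ⟶ f_* O_X` is an isomorphism;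
* `not_isZero_Rpush`: not onto implies `R^1 f_* O_X ≠ 0`.
The versions with `'` (section `Charts`) are in terms of open immersions `Spec R₁ ⟶ X ⟵ Spec R₂` and
ring homomorphisms `R₁ ⟶ R₁₂ ⟵ R₂`.
-/

set_option autoImplicit false

universe u

open CategoryTheory CategoryTheory.Limits AlgebraicGeometry Opposite TopologicalSpace

namespace Groth.Agent.Refuted.K609.MV

variable {X Y : Scheme.{u}}

section Opens

variable (f : X ⟶ Y) [IsAffine Y] [QuasiCompact f] [QuasiSeparated f] {U V : X.Opens}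

/-- Not onto: `R¹ f_* O_X ≠ 0`. -/
theorem not_isZero_Rpush (hcov : U ⊔ V = ⊤) (z : Γ(X, U ⊓ V))
    (hz : ∀ (a : Γ(X, U)) (b : Γ(X, V)), X.presheaf.map (homOfLE inf_le_left).op a -
      X.presheaf.map (homOfLE inf_le_right).op b ≠ z) :
    ¬ IsZero ((Coh.Rpush f 1).obj (Coh.structureModule X)) := by
  intro h
  have h1 := Krr.H497.Bridge.subsingleton_HH_of_isZero_Rpush f _ (CurvesC.UnitCoh.isQCoh_unit X) 1 h
  obtain ⟨a, b, hab⟩ := (CohqA.TwoChart.δO_eq_zero_iff hcov z).1 (Subsingleton.elim _ _)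
  exact hz a b hab

/-- Onto: `R^p f_* O_X = 0` for `p > 0`. -/
theorem isZero_Rpush (hU : IsAffineOpen U) (hV : IsAffineOpen V) (hUV : IsAffineOpen (U ⊓ V))
    (hcov : U ⊔ V = ⊤)
    (h : ∀ z : Γ(X, U ⊓ V), ∃ (a : Γ(X, U)) (b : Γ(X, V)), X.presheaf.map (homOfLE inf_le_left).op a -
      X.presheaf.map (homOfLE inf_le_right).op b = z) (p : ℕ) (hp : 0 < p) :
    IsZero ((Coh.Rpush f p).obj (Coh.structureModule X)) := by
  refine (Krr.H497.Bridge.isZero_Rpush_iff_HH f _ (CurvesC.UnitCoh.isQCoh_unit X) p).2 ?_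
  obtain rfl | hp2 : p = 1 ∨ 2 ≤ p := by omega
  · exact CurvesC.TwoAffine.subsingleton_one hU hV hcov _ (CurvesC.UnitCoh.isQCoh_unit X) h
  · exact CurvesC.TwoAffine.subsingleton_of_two_le hU hV hUV hcov _ (CurvesC.UnitCoh.isQCoh_unit X) p hp2

omit [IsAffine Y] [QuasiCompact f] [QuasiSeparated f] in
theorem bijective_appTop (hcov : U ⊔ V = ⊤)
    (hinj : ∀ c : Γ(Y, ⊤), X.presheaf.map (homOfLE le_top : U ⟶ ⊤).op (f.appTop c) = 0 →
      X.presheaf.map (homOfLE le_top : V ⟶ ⊤).op (f.appTop c) = 0 → c = 0)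
    (hker : ∀ (a : Γ(X, U)) (b : Γ(X, V)), X.presheaf.map (homOfLE inf_le_left).op a =
      X.presheaf.map (homOfLE inf_le_right).op b → ∃ c : Γ(Y, ⊤),
        X.presheaf.map (homOfLE le_top : U ⟶ ⊤).op (f.appTop c) = a ∧
        X.presheaf.map (homOfLE le_top : V ⟶ ⊤).op (f.appTop c) = b) :
    Function.Bijective f.appTop := by
  constructor
  · refine (injective_iff_map_eq_zero f.appTop.hom).2 fun c hc => hinj c ?_ ?_
    · exact (congr_arg _ hc).trans (map_zero _)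
    · exact (congr_arg _ hc).trans (map_zero _)
  · intro s
    obtain ⟨c, hc1, hc2⟩ := hker (X.presheaf.map (homOfLE le_top : U ⟶ ⊤).op s)
      (X.presheaf.map (homOfLE le_top : V ⟶ ⊤).op s) (by
        rw [← ConcreteCategory.comp_apply, ← ConcreteCategory.comp_apply, ← Functor.map_comp,
          ← Functor.map_comp]
        rfl)
    refine ⟨c, ?_⟩
    refine X.sheaf.eq_of_locally_eq' (fun i : Bool => cond i U V) ⊤ (fun i => homOfLE le_top) ?_ _ _ ?_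
    · rw [← hcov]
      exact sup_le (le_iSup (fun i : Bool => cond i U V) true) (le_iSup (fun i : Bool => cond i U V) false)
    · rintro (_ | _)
      · exact hc2
      · exact hc1

/-- `Γ(Y)` is the kernel: `O_Y ⟶ f_* O_X` is an isomorphism. -/
theorem isIso_unitToPush (hcov : U ⊔ V = ⊤)
    (hinj : ∀ c : Γ(Y, ⊤), X.presheaf.map (homOfLE le_top : U ⟶ ⊤).op (f.appTop c) = 0 →
      X.presheaf.map (homOfLE le_top : V ⟶ ⊤).op (f.appTop c) = 0 → c = 0)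
    (hker : ∀ (a : Γ(X, U)) (b : Γ(X, V)), X.presheaf.map (homOfLE inf_le_left).op a =
      X.presheaf.map (homOfLE inf_le_right).op b → ∃ c : Γ(Y, ⊤),
        X.presheaf.map (homOfLE le_top : U ⟶ ⊤).op (f.appTop c) = a ∧
        X.presheaf.map (homOfLE le_top : V ⟶ ⊤).op (f.appTop c) = b) :
    IsIso (ClSub.unitToPush f) := by
  have h := bijective_appTop f hcov hinj hker
  have h1 : IsIso f.appTop := (ConcreteCategory.isIso_iff_bijective f.appTop).2 h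
  exact K380.Bir.isIso_unitToPush f (FlatA.AppIso.isIso_app_of_appTop f)

end Opens

section Charts

/-- Sections over `W` pulled back to a chart `Spec R ⟶ X`. -/
noncomputable def ev {R : Type u} [CommRing R] (j : Spec (CommRingCat.of R) ⟶ X) (W : X.Opens)
    (h : ⊤ ≤ j ⁻¹ᵁ W) : Γ(X, W) →+* R :=
  (j.appLE W ⊤ h ≫ (Scheme.ΓSpecIso (CommRingCat.of R)).hom).hom

theorem ev_bijective {R : Type u} [CommRing R] (j : Spec (CommRingCat.of R) ⟶ X) [IsOpenImmersion j]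
    (W : X.Opens) (h : ⊤ ≤ j ⁻¹ᵁ W) (hW : W ≤ j.opensRange) : Function.Bijective (ev j W h) := by
  obtain rfl : W = j ''ᵁ ⊤ := by
    rw [Scheme.Hom.image_top_eq_opensRange]
    refine le_antisymm hW ?_
    rintro _ ⟨x, rfl⟩
    exact h (Set.mem_univ x)
  have h1 : IsIso (j.appLE (j ''ᵁ ⊤) ⊤ h) := by
    rw [← Scheme.Hom.appIso_hom']
    infer_instance
  have h2 : IsIso (j.appLE (j ''ᵁ ⊤) ⊤ h ≫ (Scheme.ΓSpecIso (CommRingCat.of R)).hom) := inferInstance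
  exact ConcreteCategory.bijective_of_isIso _

theorem ev_res {R : Type u} [CommRing R] (j : Spec (CommRingCat.of R) ⟶ X) (W W' : X.Opens)
    (h : ⊤ ≤ j ⁻¹ᵁ W) (hle : W ≤ W') (h' : ⊤ ≤ j ⁻¹ᵁ W') (s : Γ(X, W')) :
    ev j W h (X.presheaf.map (homOfLE hle).op s) = ev j W' h' s := by
  unfold ev
  rw [← CommRingCat.comp_apply, Scheme.Hom.map_appLE_assoc]

theorem ev_comp {R R' : Type u} [CommRing R] [CommRing R'] (j : Spec (CommRingCat.of R) ⟶ X)
    (g : R →+* R') (j' : Spec (CommRingCat.of R') ⟶ X) (hg : Spec.map (CommRingCat.ofHom g) ≫ j = j')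
    (W : X.Opens) (h : ⊤ ≤ j ⁻¹ᵁ W) (h' : ⊤ ≤ j' ⁻¹ᵁ W) (s : Γ(X, W)) :
    ev j' W h' s = g (ev j W h s) := by
  subst hg
  have h2 : (Spec.map (CommRingCat.ofHom g) ≫ j).appLE W ⊤ h' =
      j.appLE W ⊤ h ≫ (Spec.map (CommRingCat.ofHom g)).appLE ⊤ ⊤ le_top :=
    (Scheme.Hom.appLE_comp_appLE _ _ _ _ _ _ _).symm
  unfold ev
  rw [h2, Category.assoc]
  have h3 : (Spec.map (CommRingCat.ofHom g)).appLE ⊤ ⊤ le_top ≫ (Scheme.ΓSpecIso (CommRingCat.of R')).hom =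
      (Scheme.ΓSpecIso (CommRingCat.of R)).hom ≫ CommRingCat.ofHom g := by
    have h4 : (Spec.map (CommRingCat.ofHom g)).appLE ⊤ ⊤ le_top = (Spec.map (CommRingCat.ofHom g)).appTop :=
      (Scheme.Hom.app_eq_appLE _).symm
    rw [h4]
    exact Scheme.ΓSpecIso_naturality _
  rw [h3]
  rfl

theorem ev_top {R B : Type u} [CommRing R] [CommRing B] (f : X ⟶ Spec (CommRingCat.of B))
    (j : Spec (CommRingCat.of R) ⟶ X) (φ : B →+* R) (h : j ≫ f = Spec.map (CommRingCat.ofHom φ))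
    (c : Γ(Spec (CommRingCat.of B), ⊤)) :
    ev j ⊤ le_top (f.appTop c) = φ ((Scheme.ΓSpecIso (CommRingCat.of B)).hom c) := by
  have h1 : f.appTop ≫ j.appLE ⊤ ⊤ le_top ≫ (Scheme.ΓSpecIso (CommRingCat.of R)).hom =
      (Scheme.ΓSpecIso (CommRingCat.of B)).hom ≫ CommRingCat.ofHom φ := by
    have h2 : j.appLE ⊤ ⊤ le_top = j.appTop := (Scheme.Hom.app_eq_appLE _).symm
    rw [h2, ← Category.assoc, ← Scheme.Hom.comp_appTop, h]
    exact Scheme.ΓSpecIso_naturality _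
  exact congr($h1 c)

variable {R₁ R₂ R : Type u} [CommRing R₁] [CommRing R₂] [CommRing R]
  (j₁ : Spec (CommRingCat.of R₁) ⟶ X) (j₂ : Spec (CommRingCat.of R₂) ⟶ X) (j : Spec (CommRingCat.of R) ⟶ X)
  [IsOpenImmersion j₁] [IsOpenImmersion j₂] [IsOpenImmersion j] (g₁ : R₁ →+* R) (g₂ : R₂ →+* R)

theorem top_le (W : X.Opens) (h : j₁.opensRange ≤ W) : ⊤ ≤ j₁ ⁻¹ᵁ W :=
  fun x _ => h ⟨x, rfl⟩

theorem range_le (h₁ : Spec.map (CommRingCat.ofHom g₁) ≫ j₁ = j) : j.opensRange ≤ j₁.opensRange := by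
  rintro _ ⟨x, rfl⟩
  refine ⟨Spec.map (CommRingCat.ofHom g₁) x, ?_⟩
  subst h₁
  rfl

section

variable (f : X ⟶ Y) [IsAffine Y] [QuasiCompact f] [QuasiSeparated f]

include j in
/-- Two charts, not onto: `R¹ f_* O_X ≠ 0`. -/
theorem not_isZero_Rpush' (h₁ : Spec.map (CommRingCat.ofHom g₁) ≫ j₁ = j)
    (h₂ : Spec.map (CommRingCat.ofHom g₂) ≫ j₂ = j) (hcov : j₁.opensRange ⊔ j₂.opensRange = ⊤)
    (hj : j₁.opensRange ⊓ j₂.opensRange ≤ j.opensRange) (z : R) (hz : ∀ a b, g₁ a - g₂ b ≠ z) :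
    ¬ IsZero ((Coh.Rpush f 1).obj (Coh.structureModule X)) := by
  have hle : j.opensRange ≤ j₁.opensRange ⊓ j₂.opensRange :=
    le_inf (range_le j₁ j g₁ h₁) (range_le j₂ j g₂ h₂)
  have t := top_le j _ hle
  have t1 := top_le j₁ _ (le_refl _)
  have t2 := top_le j₂ _ (le_refl _)
  have t1' := top_le j _ (hle.trans inf_le_left)
  have t2' := top_le j _ (hle.trans inf_le_right)
  obtain ⟨z', hz'⟩ := (ev_bijective j _ t hj).2 z
  refine not_isZero_Rpush f hcov z' fun a b hab => hz (ev j₁ _ t1 a) (ev j₂ _ t2 b) ?_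
  rw [← hz', ← hab, map_sub, ev_res j _ _ t inf_le_left t1', ev_res j _ _ t inf_le_right t2',
    ev_comp j₁ g₁ j h₁ _ t1 t1', ev_comp j₂ g₂ j h₂ _ t2 t2']

include j in
/-- Two charts, onto: `R^p f_* O_X = 0` for `p > 0`. -/
theorem isZero_Rpush' (h₁ : Spec.map (CommRingCat.ofHom g₁) ≫ j₁ = j)
    (h₂ : Spec.map (CommRingCat.ofHom g₂) ≫ j₂ = j) (hcov : j₁.opensRange ⊔ j₂.opensRange = ⊤)
    (hj : j₁.opensRange ⊓ j₂.opensRange ≤ j.opensRange) (h : ∀ z : R, ∃ a b, g₁ a - g₂ b = z)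
    (p : ℕ) (hp : 0 < p) : IsZero ((Coh.Rpush f p).obj (Coh.structureModule X)) := by
  have hle : j.opensRange ≤ j₁.opensRange ⊓ j₂.opensRange :=
    le_inf (range_le j₁ j g₁ h₁) (range_le j₂ j g₂ h₂)
  have t := top_le j _ hle
  have t1 := top_le j₁ _ (le_refl _)
  have t2 := top_le j₂ _ (le_refl _)
  have t1' := top_le j _ (hle.trans inf_le_left)
  have t2' := top_le j _ (hle.trans inf_le_right)
  have haff : IsAffineOpen (j₁.opensRange ⊓ j₂.opensRange) := by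
    rw [le_antisymm hj hle]
    exact isAffineOpen_opensRange j
  refine isZero_Rpush f (isAffineOpen_opensRange j₁) (isAffineOpen_opensRange j₂) haff hcov (fun z => ?_) p hp
  obtain ⟨a, b, hab⟩ := h (ev j _ t z)
  obtain ⟨a', rfl⟩ := (ev_bijective j₁ _ t1 (le_refl _)).2 a
  obtain ⟨b', rfl⟩ := (ev_bijective j₂ _ t2 (le_refl _)).2 b
  refine ⟨a', b', (ev_bijective j _ t hj).1 ?_⟩
  rw [← hab, map_sub, ev_res j _ _ t inf_le_left t1', ev_res j _ _ t inf_le_right t2',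
    ev_comp j₁ g₁ j h₁ _ t1 t1', ev_comp j₂ g₂ j h₂ _ t2 t2']

end

include j in
/-- Two charts over `Spec B`, `B` the kernel: `O_Y ⟶ f_* O_X` is an isomorphism. -/
theorem isIso_unitToPush' {B : Type u} [CommRing B] (f : X ⟶ Spec (CommRingCat.of B)) [QuasiCompact f]
    [QuasiSeparated f] (φ₁ : B →+* R₁) (φ₂ : B →+* R₂)
    (hφ₁ : j₁ ≫ f = Spec.map (CommRingCat.ofHom φ₁)) (hφ₂ : j₂ ≫ f = Spec.map (CommRingCat.ofHom φ₂))
    (h₁ : Spec.map (CommRingCat.ofHom g₁) ≫ j₁ = j)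
    (h₂ : Spec.map (CommRingCat.ofHom g₂) ≫ j₂ = j) (hcov : j₁.opensRange ⊔ j₂.opensRange = ⊤)
    (hinj : ∀ b : B, φ₁ b = 0 → φ₂ b = 0 → b = 0)
    (hker : ∀ a₁ a₂, g₁ a₁ = g₂ a₂ → ∃ b : B, φ₁ b = a₁ ∧ φ₂ b = a₂) :
    IsIso (ClSub.unitToPush f) := by
  have hle : j.opensRange ≤ j₁.opensRange ⊓ j₂.opensRange :=
    le_inf (range_le j₁ j g₁ h₁) (range_le j₂ j g₂ h₂)
  have t := top_le j _ hle
  have t1 := top_le j₁ _ (le_refl _)
  have t2 := top_le j₂ _ (le_refl _)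
  have t1' := top_le j _ (hle.trans inf_le_left)
  have t2' := top_le j _ (hle.trans inf_le_right)
  have e : ∀ {S : Type u} [CommRing S] (i : Spec (CommRingCat.of S) ⟶ X) (ψ : B →+* S) (W : X.Opens)
      (h : ⊤ ≤ i ⁻¹ᵁ W) (_ : i ≫ f = Spec.map (CommRingCat.ofHom ψ)) (c : Γ(Spec (CommRingCat.of B), ⊤)),
      ev i W h (X.presheaf.map (homOfLE le_top).op (f.appTop c)) =
        ψ ((Scheme.ΓSpecIso (CommRingCat.of B)).hom c) := by
    intro S _ i ψ W h hi c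
    have h5 : ev i _ h (X.presheaf.map (homOfLE le_top).op (f.appTop c)) = ev i ⊤ le_top (f.appTop c) :=
      ev_res i _ _ h le_top le_top _
    rw [h5]
    exact ev_top f i ψ hi c
  have hb : Function.Bijective (Scheme.ΓSpecIso (CommRingCat.of B)).hom :=
    ConcreteCategory.bijective_of_isIso _
  refine isIso_unitToPush f hcov (fun c hc1 hc2 => ?_) (fun a b hab => ?_)
  · refine (map_eq_zero_iff _ hb.1).1 (hinj _ ?_ ?_)
    · rw [← e j₁ φ₁ _ t1 hφ₁, hc1, map_zero]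
    · rw [← e j₂ φ₂ _ t2 hφ₂, hc2, map_zero]
  · obtain ⟨c, hc1, hc2⟩ := hker (ev j₁ _ t1 a) (ev j₂ _ t2 b) (by
      rw [← ev_comp j₁ g₁ j h₁ _ t1 t1', ← ev_comp j₂ g₂ j h₂ _ t2 t2',
        ← ev_res j _ _ t inf_le_left t1', ← ev_res j _ _ t inf_le_right t2', hab])
    obtain ⟨c', rfl⟩ := hb.2 c
    refine ⟨c', (ev_bijective j₁ _ t1 (le_refl _)).1 ?_, (ev_bijective j₂ _ t2 (le_refl _)).1 ?_⟩
    · rw [e j₁ φ₁ _ t1 hφ₁]; exact hc1
    · rw [e j₂ φ₂ _ t2 hφ₂]; exact hc2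

end Charts

end Groth.Agent.Refuted.K609.MV
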