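import Groth.Agent.Refuted.K609.MV

/-!
# Mayer-Vietoris with two affine charts, `IsPullback` form

The statements G5 (a), (b), (c) of helper826's skeleton: `X` is covered by `j₁ : Spec C₁ ⟶ X` and
`j₂ : Spec C₂ ⟶ X` with overlap `Spec C₁₂` (`hpb`).
-/

set_option autoImplicit false
universe u
open CategoryTheory CategoryTheory.Limits AlgebraicGeometry TopologicalSpace

namespace Groth.Agent.Refuted.K609.MVPull

variable {A C₁ C₂ C₁₂ : Type u} [CommRing A] [CommRing C₁] [CommRing C₂] [CommRing C₁₂]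
  {X : Scheme.{u}} (f : X ⟶ Spec (CommRingCat.of A)) [QuasiCompact f] [QuasiSeparated f]
  (j₁ : Spec (CommRingCat.of C₁) ⟶ X) (j₂ : Spec (CommRingCat.of C₂) ⟶ X) [IsOpenImmersion j₁]
  [IsOpenImmersion j₂] (hcov : j₁.opensRange ⊔ j₂.opensRange = ⊤) (r₁ : C₁ →+* C₁₂) (r₂ : C₂ →+* C₁₂)
  (hpb : IsPullback (Spec.map (CommRingCat.ofHom r₁)) (Spec.map (CommRingCat.ofHom r₂)) j₁ j₂)

include hpb in
theorem isOpenImmersion : IsOpenImmersion (Spec.map (CommRingCat.ofHom r₁) ≫ j₁) := by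
  have h1 : IsOpenImmersion (Spec.map (CommRingCat.ofHom r₁)) :=
    MorphismProperty.of_isPullback (P := @IsOpenImmersion) hpb.flip inferInstance
  infer_instance

include hpb in
theorem inf_le [IsOpenImmersion (Spec.map (CommRingCat.ofHom r₁) ≫ j₁)] :
    j₁.opensRange ⊓ j₂.opensRange ≤ (Spec.map (CommRingCat.ofHom r₁) ≫ j₁).opensRange := by
  rintro x ⟨⟨a, ha⟩, ⟨b, hb⟩⟩
  obtain ⟨z, hz1, -⟩ := Scheme.Pullback.exists_preimage_pullback a b (ha.trans hb.symm)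
  refine ⟨hpb.isoPullback.inv z, ?_⟩
  rw [← ha, ← hz1]
  change ((hpb.isoPullback.inv ≫ Spec.map (CommRingCat.ofHom r₁) ≫ j₁) z) = _
  rw [hpb.isoPullback_inv_fst_assoc]
  rfl

include hcov hpb in
/-- G5 (a) -/
theorem isZero_Rpush (hs : ∀ c : C₁₂, ∃ c₁ c₂, c = r₁ c₁ + r₂ c₂) (p : ℕ) (hp : 0 < p) :
    IsZero ((Coh.Rpush f p).obj (Coh.structureModule X)) := by
  have := isOpenImmersion j₁ j₂ r₁ r₂ hpb
  refine MV.isZero_Rpush' j₁ j₂ (Spec.map (CommRingCat.ofHom r₁) ≫ j₁) r₁ r₂ f rfl hpb.w.symm hcov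
    (inf_le j₁ j₂ r₁ r₂ hpb) (fun z => ?_) p hp
  obtain ⟨c₁, c₂, rfl⟩ := hs z
  exact ⟨c₁, -c₂, by rw [map_neg, sub_neg_eq_add]⟩

include hcov hpb in
/-- G5 (b) -/
theorem not_isZero_Rpush (c : C₁₂) (hc : ∀ c₁ c₂, c ≠ r₁ c₁ + r₂ c₂) :
    ¬ IsZero ((Coh.Rpush f 1).obj (Coh.structureModule X)) := by
  have := isOpenImmersion j₁ j₂ r₁ r₂ hpb
  refine MV.not_isZero_Rpush' j₁ j₂ (Spec.map (CommRingCat.ofHom r₁) ≫ j₁) r₁ r₂ f rfl hpb.w.symm hcov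
    (inf_le j₁ j₂ r₁ r₂ hpb) c (fun a b h => hc a (-b) ?_)
  rw [← h, map_neg, sub_eq_add_neg]

include hcov hpb in
/-- G5 (c) -/
theorem isIso_unitToPush (φ₁ : A →+* C₁) (φ₂ : A →+* C₂) (hj₁ : j₁ ≫ f = Spec.map (CommRingCat.ofHom φ₁))
    (hj₂ : j₂ ≫ f = Spec.map (CommRingCat.ofHom φ₂)) (hinj : ∀ a, φ₁ a = 0 → φ₂ a = 0 → a = 0)
    (hsurj : ∀ c₁ c₂, r₁ c₁ = r₂ c₂ → ∃ a, φ₁ a = c₁ ∧ φ₂ a = c₂) : IsIso (ClSub.unitToPush f) := by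
  have := isOpenImmersion j₁ j₂ r₁ r₂ hpb
  exact MV.isIso_unitToPush' j₁ j₂ (Spec.map (CommRingCat.ofHom r₁) ≫ j₁) r₁ r₂ f φ₁ φ₂ hj₁ hj₂ rfl
    hpb.w.symm hcov hinj hsurj

end Groth.Agent.Refuted.K609.MVPull
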